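import Groth.Agent.UnibConn.Fibre
import Mathlib.RingTheory.QuasiFinite.Basic

/-!
# Residue fields of the normalisation of a Noetherian local domain
-/

set_option linter.style.haveILetI false
set_option synthInstance.maxHeartbeats 200000
set_option maxHeartbeats 1000000

universe u

namespace Groth.Agent.SemiLocNorm

open Groth.Agent.UnibConn

/-- Finiteness pulls back along an injective map. -/
theorem finite_of_injective {A X L : Type u} [CommRing A] [IsNoetherianRing A] [CommRing X] [CommRing L]
    [Algebra A X] (f : X →+* L) (hf : Function.Injective f) (h : (f.comp (algebraMap A X)).Finite) :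
    Module.Finite A X := by
  letI := (f.comp (algebraMap A X)).toAlgebra
  haveI : Module.Finite A L := h
  exact Module.Finite.of_injective (AlgHom.toLinearMap { f with commutes' := fun a => rfl } : X →ₗ[A] L) hf

/-- A quotient mapping into a finite residue extension of a local ring is finite. -/
theorem finite_quotient {A S N X : Type u} [CommRing A] [IsNoetherianRing A] [CommRing S] [IsLocalRing S]
    [CommRing N] [CommRing X] [Algebra A X] [Algebra S N] (M' : Ideal N)
    [Module.Finite S (N ⧸ M')] (π : A →+* S) (hπ : ((IsLocalRing.residue S).comp π).Finite)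
    (hk : IsLocalRing.maximalIdeal S ≤ M'.comap (algebraMap S N)) (θ : X →+* N)
    (hθ : θ.comp (algebraMap A X) = (algebraMap S N).comp π) (M : Ideal X) (hM : M = M'.comap θ) :
    Module.Finite A (X ⧸ M) := by
  subst hM
  refine finite_of_injective (Ideal.quotientMap M' θ le_rfl) Ideal.quotientMap_injective ?_
  let hbar : IsLocalRing.ResidueField S →+* N ⧸ M' :=
    Ideal.Quotient.lift _ ((Ideal.Quotient.mk M').comp (algebraMap S N)) fun x hx =>
      Ideal.Quotient.eq_zero_iff_mem.2 (hk hx)
  have hb : hbar.Finite := RingHom.Finite.of_comp_finite (f := IsLocalRing.residue S) (by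
    rw [show hbar.comp (IsLocalRing.residue S) = algebraMap S (N ⧸ M') from RingHom.ext fun x => rfl]
    exact RingHom.finite_algebraMap.2 inferInstance)
  rw [show (Ideal.quotientMap M' θ le_rfl).comp (algebraMap A (X ⧸ M'.comap θ)) =
      hbar.comp ((IsLocalRing.residue S).comp π) from RingHom.ext fun a =>
      congrArg (Ideal.Quotient.mk M') (DFunLike.congr_fun hθ a)]
  exact hb.comp hπ

section Local

variable (A : Type u) [CommRing A] [IsDomain A] [IsNoetherianRing A] [IsLocalRing A]
  (K : Type u) [Field K] [Algebra A K] [IsFractionRing A K]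

local notation "R'" => AdicCompletion (IsLocalRing.maximalIdeal A) A

/-- The residue fields of the normalisation of a Noetherian local domain are finite. -/
theorem finite_residue_normalisation (M : Ideal (integralClosure A K)) [M.IsMaximal] :
    Module.Finite A (integralClosure A K ⧸ M) := by
  classical
  haveI := isNoetherianRing_completion (A := A)
  haveI : ∀ Q : Ideal R', ∀ [Q.IsPrime], IsLocalRing (NQ Q) := fun Q _ => isLocalRing_NQ Q
  obtain ⟨Q, hQ, hQp, hM⟩ : ∃ (Q : Ideal R') (hQ : Q ∈ minimalPrimes R') (_ : Q.IsPrime),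
      M = (IsLocalRing.maximalIdeal (NQ Q)).comap (thetaQ K hQ) := by
    haveI : Finite {Q : Ideal R' // Q ∈ minimalPrimes R'} :=
      (minimalPrimes.finite_of_isNoetherianRing R').to_subtype
    let T := {Q : Ideal R' // Q ∈ minimalPrimes R'}
    haveI : ∀ Q : T, (Q.1).IsPrime := fun Q => Q.2.1.1
    let c : T → Ideal (integralClosure A K) := fun Q =>
      (IsLocalRing.maximalIdeal (NQ Q.1)).comap (thetaQ K Q.2)
    have hsub : (M : Set (integralClosure A K)) ⊆
        ⋃ Q ∈ ((Set.finite_univ (α := T)).toFinset : Set T), (c Q : Set _) := by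
      intro y hy
      by_contra hno
      simp only [Set.Finite.coe_toFinset, Set.mem_univ, Set.iUnion_true, Set.mem_iUnion, not_exists] at hno
      have hu : ∀ Q : T, IsUnit (thetaQ K Q.2 y) := fun Q => by
        by_contra hn
        exact hno Q ((IsLocalRing.mem_maximalIdeal _).2 hn)
      obtain ⟨m, hm⟩ := Ideal.exists_maximal R'
      haveI := hm.isPrime
      obtain ⟨Q, hQ, -⟩ := Ideal.exists_minimalPrimes_le (I := (⊥ : Ideal R')) (J := m) bot_le
      have hy0 : (y : K) ≠ 0 := by
        intro h0
        have hh := hu ⟨Q, hQ⟩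
        rw [show y = 0 from Subtype.ext h0, map_zero] at hh
        exact not_isUnit_zero hh
      have hint : IsIntegral A (y : K)⁻¹ := isIntegral_of_forall_toFQ K fun Q _ hQ => by
        obtain ⟨v, hv⟩ := hu ⟨Q, hQ⟩
        have e : toFQ K hQ (y : K)⁻¹ = ((v⁻¹ : (NQ Q)ˣ) : NQ Q).1 := by
          rw [map_inv₀, ← coe_thetaQ K hQ y, ← hv]
          exact inv_eq_of_mul_eq_one_left (congrArg Subtype.val v.inv_mul)
        rw [e]
        exact ((v⁻¹ : (NQ Q)ˣ) : NQ Q).2
      exact (Ideal.IsMaximal.ne_top ‹M.IsMaximal›) (Ideal.eq_top_of_isUnit_mem _ hy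
        ⟨⟨y, ⟨_, hint⟩, Subtype.ext (mul_inv_cancel₀ hy0), Subtype.ext (inv_mul_cancel₀ hy0)⟩, rfl⟩)
    obtain ⟨m, hm⟩ := Ideal.exists_maximal R'
    haveI := hm.isPrime
    obtain ⟨Q, hQ, -⟩ := Ideal.exists_minimalPrimes_le (I := (⊥ : Ideal R')) (J := m) bot_le
    obtain ⟨Q', -, hle⟩ := (Ideal.subset_union_prime (f := c) ⟨Q, hQ⟩ ⟨Q, hQ⟩
      fun Q' _ _ _ => Ideal.comap_isPrime _ _).1 hsub
    exact ⟨Q'.1, Q'.2, inferInstance, Ideal.IsMaximal.eq_of_le ‹_›
      (Ideal.IsPrime.ne_top (Ideal.comap_isPrime _ _)) hle⟩
  haveI := hQp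
  haveI := finite_NQ (A := A) Q
  haveI : Module.Finite R' (NQ Q) := Module.Finite.trans (R' ⧸ Q) (NQ Q)
  haveI : IsLocalRing R' := inferInstance
  refine finite_quotient (S := R') (IsLocalRing.maximalIdeal (NQ Q)) (algebraMap A R')
    (RingHom.Finite.of_surjective _ fun y => ?_) (fun x hx => ?_) (thetaQ K hQ)
    (RingHom.ext fun a => Subtype.ext ?_) M hM
  · obtain ⟨α, rfl⟩ := IsLocalRing.residue_surjective y
    obtain ⟨a₀, ha⟩ := exists_approx (A := A) α 1
    rw [pow_one] at ha
    refine ⟨a₀, (Ideal.Quotient.eq.2 ?_).symm⟩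
    exact (Ideal.map_le_iff_le_comap.2 fun a ha => by
      rw [Ideal.mem_comap]
      exact (IsLocalRing.mem_maximalIdeal _).2 fun hu => (IsLocalRing.mem_maximalIdeal _).1 ha
        (isUnit_of_map_unit (algebraMap A R') a hu)) ha
  · haveI : ((IsLocalRing.maximalIdeal (NQ Q)).comap (algebraMap R' (NQ Q))).IsMaximal :=
      Ideal.isMaximal_comap_of_isIntegral_of_isMaximal _
    exact (IsLocalRing.eq_maximalIdeal this).ge hx
  · refine (coe_thetaQ K hQ _).trans ?_
    exact (AlgHom.commutes _ _).trans (IsScalarTower.algebraMap_apply A R' (FQ Q) a)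

end Local

/-- The integral closure of a Noetherian local domain in a finite extension is semi-local with finite
residue fields. -/
theorem semilocal_integralClosure {A K' : Type u} [CommRing A] [IsDomain A] [IsLocalRing A]
    [IsNoetherianRing A] [Field K'] [Algebra A K'] [Algebra (FractionRing A) K']
    [IsScalarTower A (FractionRing A) K'] [FiniteDimensional (FractionRing A) K'] :
    {m : Ideal (integralClosure A K') | m.IsMaximal}.Finite ∧
      ∀ (m : Ideal (integralClosure A K')), m.IsMaximal → Module.Finite A (integralClosure A K' ⧸ m) := by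
  classical
  obtain ⟨s, b, hb⟩ := FiniteDimensional.exists_is_basis_integral A (FractionRing A) K'
  let B : Subalgebra A K' := Algebra.adjoin A (Set.range b)
  haveI : Module.Finite A B := Module.Finite.iff_fg.2
    (fg_adjoin_of_finite (Set.finite_range _) (by rintro _ ⟨i, rfl⟩; exact hb i))
  haveI : IsNoetherianRing B := IsNoetherianRing.of_finite A B
  haveI : IsFractionRing B K' := by
    have hnum : ∀ z : K', ∃ a : A, a ≠ 0 ∧ a • z ∈ B := by
      intro z
      obtain ⟨⟨a, ha⟩, h⟩ := IsLocalization.exist_integer_multiples_of_finite (nonZeroDivisors A)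
        (S := FractionRing A) (fun i => b.repr z i)
      refine ⟨a, nonZeroDivisors.ne_zero ha, ?_⟩
      rw [← b.sum_repr z, Finset.smul_sum]
      refine sum_mem fun i _ => ?_
      obtain ⟨c, hc⟩ := h i
      rw [← smul_assoc, show a • b.repr z i = algebraMap A (FractionRing A) c from hc.symm, algebraMap_smul]
      exact B.smul_mem (Algebra.subset_adjoin (Set.mem_range_self i)) c
    refine IsFractionRing.of_field B K' fun z => ?_
    obtain ⟨a, ha, haz⟩ := hnum z
    have ha' : algebraMap A K' a ≠ 0 := by
      rw [IsScalarTower.algebraMap_apply A (FractionRing A) K', map_ne_zero_iff _ (RingHom.injective _)]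
      exact fun h0 => ha (IsFractionRing.injective A (FractionRing A) (h0.trans (map_zero _).symm))
    refine ⟨⟨a • z, haz⟩, ⟨algebraMap A K' a, B.algebraMap_mem a⟩, ?_⟩
    show z = a • z / algebraMap A K' a
    rw [Algebra.smul_def, mul_div_cancel_left₀ _ ha']
  haveI : IsDomain B := inferInstance
  letI : Algebra B (integralClosure A K') := (Subalgebra.inclusion fun x hx =>
    (Algebra.IsIntegral.isIntegral (R := A) (⟨x, hx⟩ : B)).map B.val).toAlgebra
  haveI : IsScalarTower B (integralClosure A K') K' := IsScalarTower.of_algebraMap_eq fun _ => rfl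
  haveI : IsScalarTower A B (integralClosure A K') := IsScalarTower.of_algebraMap_eq fun _ => rfl
  haveI : IsIntegralClosure (integralClosure A K') B K' :=
    { algebraMap_injective := Subtype.val_injective
      isIntegral_iff := fun {x} => ⟨fun hx => ⟨⟨x, isIntegral_trans x hx⟩, rfl⟩,
        fun ⟨y, hy⟩ => hy ▸ IsIntegral.tower_top (R := A) y.2⟩ }
  let φ := algebraMap B (integralClosure A K')
  have hmax : ∀ M : Ideal (integralClosure A K'), M.IsMaximal → (M.comap φ).IsMaximal := fun M hM => by
    haveI : Algebra.IsIntegral B (integralClosure A K') := IsIntegralClosure.isIntegral_algebra B K'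
    exact Ideal.isMaximal_comap_of_isIntegral_of_isMaximal (R := B) M
  refine ⟨?_, fun M hM => ?_⟩
  · refine ((Algebra.QuasiFinite.finite_primesOver (R := A) (S := B) (IsLocalRing.maximalIdeal A)).biUnion'
      (t := fun z (hz : z ∈ (IsLocalRing.maximalIdeal A).primesOver B) =>
        {M : Ideal (integralClosure A K') | M.IsPrime ∧ M.comap φ = z}) fun z hz => ?_).subset fun M hM => ?_
    · haveI := hz.1
      exact finite_primes_over B K' (integralClosure A K') z
    · haveI : (M.comap φ).IsMaximal := hmax M hM
      haveI : ((M.comap φ).comap (algebraMap A B)).IsMaximal :=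
        Ideal.isMaximal_comap_of_isIntegral_of_isMaximal (R := A) (M.comap φ)
      exact Set.mem_biUnion ⟨Ideal.IsMaximal.isPrime ‹_›,
        ⟨(IsLocalRing.eq_maximalIdeal ‹((M.comap φ).comap (algebraMap A B)).IsMaximal›).symm⟩⟩
        ⟨Ideal.IsMaximal.isPrime hM, rfl⟩
  · haveI := hM
    let z := M.comap φ
    haveI hz : z.IsMaximal := hmax M hM
    letI := algAtPrime B K' z
    haveI : IsScalarTower B (Localization.AtPrime z) K' :=
      IsScalarTower.of_algebraMap_eq' (IsLocalization.lift_comp _).symm
    haveI := isFractionRing_atPrime B K' z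
    haveI : IsDomain (Localization.AtPrime z) :=
      IsLocalization.isDomain_localization z.primeCompl_le_nonZeroDivisors
    haveI : IsNoetherianRing (Localization.AtPrime z) :=
      IsLocalization.isNoetherianRing z.primeCompl _ ‹_›
    obtain ⟨M', hM', hMM'⟩ := exists_maximal_over B K' (integralClosure A K') z M rfl
    haveI := hM'
    haveI := finite_residue_normalisation (Localization.AtPrime z) K' M'
    refine finite_quotient (S := Localization.AtPrime z) M'
      ((algebraMap B (Localization.AtPrime z)).comp (algebraMap A B)) ?_ (fun x hx => ?_)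
      (toNormAtPrime B K' (integralClosure A K') z) (RingHom.ext fun a => Subtype.ext ?_) M hMM'.symm
    · rw [← RingHom.comp_assoc]
      refine RingHom.Finite.comp (RingHom.Finite.of_surjective _ fun y => ?_) (RingHom.finite_algebraMap.2 inferInstance)
      obtain ⟨r, rfl⟩ := IsLocalization.AtPrime.equivQuotMaximalIdeal z (Localization.AtPrime z) |>.surjective y
      obtain ⟨r, rfl⟩ := Ideal.Quotient.mk_surjective r
      exact ⟨r, rfl⟩
    · haveI : ((M'.comap (algebraMap (Localization.AtPrime z) (integralClosure (Localization.AtPrime z) K')))).IsMaximal :=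
        Ideal.isMaximal_comap_of_isIntegral_of_isMaximal _
      exact (IsLocalRing.eq_maximalIdeal this).ge hx
    · show algebraMap (integralClosure A K') K' (algebraMap A _ a) = _
      refine Eq.trans ?_ (IsScalarTower.algebraMap_apply B (Localization.AtPrime z) K' _)
      rfl

end Groth.Agent.SemiLocNorm
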